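import Cfsg.Agent.Lib.Comp.U35x.Main
import Cfsg.Agent.Lib.Comp.Fast
import Cfsg.Agent.Lib.MatB.Act2

set_option maxRecDepth 100000
set_option Elab.async false

namespace Cfsg.Lib.Comp.U35x

universe u

open Cfsg.Lib.MatB

noncomputable def n2_1 : Net :=
 (Net.cons 32 (nat_lit 0x44880000)
 (Net.cons 16 (nat_lit 0x585000000a00)
 (Net.cons 8 (nat_lit 0x80004000b00000)
 (Net.cons 4 (nat_lit 0x408020600080004)
 (Net.cons 2 (nat_lit 0x2002020)
 (Net.cons 1 (nat_lit 0x40014501044045)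
 (Net.cons 2 (nat_lit 0x1000000302002320)
 (Net.cons 4 (nat_lit 0xc090206000b0004)
 (Net.cons 8 (nat_lit 0x80004000b00090)
 (Net.cons 16 (nat_lit 0x585000000a00)
 (Net.cons 32 (nat_lit 0x44880000)
 Net.nil)))))))))))

noncomputable def n2_2 : Net :=
 (Net.cons 32 (nat_lit 0x2b237db6)
 (Net.cons 16 (nat_lit 0xd0020000f832)
 (Net.cons 8 (nat_lit 0x5400b20014)
 (Net.cons 4 (nat_lit 0x400080c040a0e04)
 (Net.cons 2 (nat_lit 0x2222000220)
 (Net.cons 1 (nat_lit 0x100104114041114)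
 (Net.cons 2 (nat_lit 0x2300210032030323)
 (Net.cons 4 (nat_lit 0x7020e0e0c070e08)
 (Net.cons 8 (nat_lit 0x20074001e0090)
 (Net.cons 16 (nat_lit 0xf22300006cf0)
 (Net.cons 32 (nat_lit 0x2b23fff8)
 Net.nil)))))))))))

noncomputable def n2_4 : Net :=
 (Net.cons 32 (nat_lit 0x9b430000)
 (Net.cons 16 (nat_lit 0x82ca00008500)
 (Net.cons 8 (nat_lit 0x80005200c800c2)
 (Net.cons 4 (nat_lit 0x80e0004000c00)
 (Net.cons 2 (nat_lit 0x2000000002000022)
 (Net.cons 1 (nat_lit 0x1141101141410044)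
 (Net.cons 2 (nat_lit 0x2000030002001222)
 (Net.cons 4 (nat_lit 0x80e0004000c01)
 (Net.cons 8 (nat_lit 0x80005200c800ca)
 (Net.cons 16 (nat_lit 0x8aca00008500)
 (Net.cons 32 (nat_lit 0x9b430000)
 Net.nil)))))))))))

noncomputable def n2_5 : Net :=
 (Net.cons 32 (nat_lit 0x50090000)
 (Net.cons 16 (nat_lit 0x590400000ea0)
 (Net.cons 8 (nat_lit 0x5800c000600024)
 (Net.cons 4 (nat_lit 0xa000a00080000)
 (Net.cons 2 (nat_lit 0x200020022000000)
 (Net.cons 1 (nat_lit 0x150544144040054)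
 (Net.cons 2 (nat_lit 0x231320022001300)
 (Net.cons 4 (nat_lit 0xa000a060a000c)
 (Net.cons 8 (nat_lit 0x5800c000600024)
 (Net.cons 16 (nat_lit 0x590400008ea0)
 (Net.cons 32 (nat_lit 0x50090000)
 Net.nil)))))))))))

noncomputable def n2 : List Net := [Net.nil,
 n2_1,
 n2_2,
 Net.rev n2_2,
 n2_4,
 n2_5]

theorem n2_ok : NetsOK 64 n2 := netsOK_of (by decide +kernel)

theorem n2_rel : Rels (gp n2) R := rels_of_relsB (k := 6) n2_ok (by norm_num) (by decide +kernel)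

theorem n2_iv : IvOK (gp n2) iv := ivOK_of_ivB (k := 6) n2_ok (by norm_num) (by decide +kernel)

theorem n2_tr : transB n2 L [1,2,4,2,1,4,2,1,4,2,2,2] 50 = true := by decide +kernel

theorem n2_hom : ∃ f : cl (gp nets) L →* Equiv.Perm ℕ, (∀ w, subB w L = true → f (wv nets L w) = ev (gp n2) w) ∧ TransOn f 50 :=
  exists_act2 ord nets_iv nets_rel card.ge n2_ok n2_iv n2_rel n2_tr

end Cfsg.Lib.Comp.U35x
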