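import Cfsg.Agent.Lib.Comp.U35x.Act

set_option maxRecDepth 100000
set_option Elab.async false

namespace Cfsg.Lib.Comp.U35x

open Cfsg.Lib.MatB MulAction

def wa : List ℕ := [1, 4]
def wb : List ℕ := [1, 3, 4, 2]
def wz : List ℕ := [1, 4, 3, 4, 1, 2, 4, 3, 4, 2]

theorem he5 : heB 128 7 nets L 5 wa wb wz = true := by decide +kernel

/-- Conjugation by the letter `2`. -/
def tau (u : He 5) : He 5 := ⟨0, 2, 0⟩ ^ u.i.val * ⟨1, 0, 0⟩ ^ u.j.val * ⟨0, 0, 3⟩ ^ u.k.val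

theorem cj5 : ∀ u : He 5, weq 128 7 nets L (apd [2] (hw wa wb wz u)) (apd (hw wa wb wz (tau u)) [2]) = true := by
  decide +kernel

theorem min_index (H : Subgroup (cl (gp nets) L)) (h : H ≠ ⊤) : 50 ≤ H.index := by
  have hk : 128 ≤ 2 ^ 7 := by norm_num
  have := nets_ok.finite L
  obtain ⟨φ, hφ⟩ := exists_he nets_ok hk he5
  have h1 : φ ⟨0, 0, 1⟩ ∉ H.normalCore := by
    rw [(simple.eq_bot_or_eq_top_of_normal _ inferInstance).resolve_right fun e => h (top_le_iff.1 (e ▸ H.normalCore_le)),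
      hφ]
    exact wv_ne nets_ok (by decide +kernel) (A := Nat.shiftLeft 1 1) (by decide +kernel)
  rw [Subgroup.normalCore_eq_ker, MonoidHom.mem_ker, Equiv.ext_iff, not_forall] at h1
  obtain ⟨m, hm⟩ := h1
  refine fifty_le φ (t := wv nets L [2]) (τ := tau) (fun u => ?_) (by decide +kernel) (c := 3) (by decide +kernel) hm
  rw [hφ, hφ, mul_inv_eq_iff_eq_mul, ← ev_apd, ← ev_apd]
  exact wv_eq nets_ok hk (cj5 u)

theorem exists_fifty : ∃ H : Subgroup (cl (gp nets) L), H.index = 50 :=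
  let ⟨_, _, h⟩ := n2_hom; ⟨_, h.index⟩

end Cfsg.Lib.Comp.U35x
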