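import Cfsg.Agent.Lib.Comp.U35x.Base

set_option maxRecDepth 100000
set_option Elab.async false

namespace Cfsg.Lib.Comp.U35x

universe u

noncomputable def T1_R : List (List ℕ × ℕ) := [([1],1),
 ([1,2,2,2,2],0),
 ([4],1),
 ([1,4,2,2,4,3,3,4],0),
 ([1,4],4),
 ([1,2,4,1,3,4,3,4,3,4,2,4,2,4],0),
 ([2,3],0)]

noncomputable def T1_n_1 : Net :=
 (Net.cons 64 (nat_lit 0xa39bc2012e058428)
 (Net.cons 32 (nat_lit 0x27f7ca740000000022627a1a)
 (Net.cons 16 (nat_lit 0x3f68000025880000a03400008182)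
 (Net.cons 8 (nat_lit 0x58000400b00094000000000056)
 (Net.cons 4 (nat_lit 0x80c0e0000040a020c08000400000c00)
 (Net.cons 2 (nat_lit 0x20002200000000220002200002022220)
 (Net.cons 1 (nat_lit 0x14404101451140140514400101444110)
 (Net.cons 2 (nat_lit 0x20310120321203201311312113123120)
 (Net.cons 4 (nat_lit 0x30a01040c070f0f0a00020108030f06)
 (Net.cons 8 (nat_lit 0x150018000800e300fc00480089005e)
 (Net.cons 16 (nat_lit 0x3e9e0000d82000009279000009c0)
 (Net.cons 32 (nat_lit 0xa452d698000000002e79f244)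
 (Net.cons 64 (nat_lit 0xa3bfc2022c03c428)
 Net.nil)))))))))))))

noncomputable def T1_n_2 : Net :=
 (Net.cons 64 (nat_lit 0xa23d34542c21caf0)
 (Net.cons 32 (nat_lit 0x56139a2200000000ced4c9e4)
 (Net.cons 16 (nat_lit 0x32a0000021c00000999200007c3e)
 (Net.cons 8 (nat_lit 0xb800ee00e0003000ca008c001c0036)
 (Net.cons 4 (nat_lit 0xa0a0800060e040a080c000c0a000004)
 (Net.cons 2 (nat_lit 0x20020000020000202202000000002000)
 (Net.cons 1 (nat_lit 0x44440504411050151414454040544104)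
 (Net.cons 2 (nat_lit 0x3300333103003203300032030231312)
 (Net.cons 4 (nat_lit 0xb0e040f020f0309040e0b0f0d010a0e)
 (Net.cons 8 (nat_lit 0x9200430054002f00c5002f00000094)
 (Net.cons 16 (nat_lit 0xe0b500003c14000094ca00003518)
 (Net.cons 32 (nat_lit 0x6474e38000000000c905a4e6)
 (Net.cons 64 (nat_lit 0xad3a862b39746a96)
 Net.nil)))))))))))))

noncomputable def T1_n_4 : Net :=
 (Net.cons 64 (nat_lit 0x6051a878a1aed208)
 (Net.cons 32 (nat_lit 0xbc23f574000000007877708c)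
 (Net.cons 16 (nat_lit 0x50fc000068940000ed4200001142)
 (Net.cons 8 (nat_lit 0x6000000078000200d800900040000a)
 (Net.cons 4 (nat_lit 0xc000c08000004060608080008080a)
 (Net.cons 2 (nat_lit 0x202000000002200020000000002222)
 (Net.cons 1 (nat_lit 0x5444005500001401444150500011141)
 (Net.cons 2 (nat_lit 0x13022223303202230203322110202310)
 (Net.cons 4 (nat_lit 0x3030e08000604030d090c08080505)
 (Net.cons 8 (nat_lit 0x60006e007d008200c50057004600dc)
 (Net.cons 16 (nat_lit 0xd0fc000068940000831100001341)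
 (Net.cons 32 (nat_lit 0xbc33e5740000000078f7608c)
 (Net.cons 64 (nat_lit 0x6051b878a1aec248)
 Net.nil)))))))))))))

noncomputable def T1_n : List Net := [Net.nil,
 T1_n_1,
 T1_n_2,
 Net.rev T1_n_2,
 T1_n_4]

theorem T1_n_ok : NetsOK 128 T1_n := netsOK_of (by decide +kernel)

theorem T1_n_rel : Rels (gp T1_n) T1_R := rels_of_relsB (k := 7) T1_n_ok (by norm_num) (by decide +kernel)

theorem T1_fin : finB 128 T1_n [1,2,3,4] 125 (runH 128 T1_n (fun x p => ptInv (nth Net.nil T1_n x) p) iv T1_R [] ([1,2,3].map fun x => [x]) 0 []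
  [1,5,9,0,8,12,16,24,4,12,24,4,12,16,24,4,12,24,0,4,24,0,4,0,20,4,8,12,16,24,4,8,12,16,24,0,4,8,12,20,0,4,12,24]
  (defsH 128 T1_n (ones 768) [4,1,2,3,4,1,2,3,4,1,2,3,4] (Nat.shiftLeft 1 0) 0)) = true := by decide +kernel

theorem T1_idx : Idx.{u} iv (T1_R ++ []) ([1,2,3].map fun x => [x]) [1,2,3,4] 125 :=
  Reach.idx T1_n_ok (reach_runH T1_n_ok (fun x p _ => ptInv_gp T1_n_ok x p) T1_n_rel (reach_defsH T1_n_ok _ _ _ _ _ _) _ _) T1_fin (by norm_num)

end Cfsg.Lib.Comp.U35x
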