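import Cfsg.Agent.Lib.Comp.U35x.Perm
import Cfsg.Agent.Lib.Comp.PermGrp
import Cfsg.Agent.Lib.Comp.Bridge2
import Cfsg.Agent.Lib.Comp.U35x.T0
import Cfsg.Agent.Lib.Comp.U35x.T1
import Cfsg.Agent.Lib.Comp.U35x.T2
import Cfsg.Agent.Lib.Comp.U35x.T3

set_option maxRecDepth 100000
set_option Elab.async false

namespace Cfsg.Lib.Comp.U35x

universe u

theorem T3_ord : Ord.{u} iv T3_R [1] 2 :=
  (T3_idx.ord_base).of_cons (cons_of_subset (by decide +kernel))

theorem T2_ord : Ord.{u} iv T2_R [1,2,3] 8 :=
  (T2_idx.ord_step T3_ord).of_cons (cons_of_subset (by decide +kernel))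

theorem T1_ord : Ord.{u} iv T1_R [1,2,3,4] 1000 :=
  (T1_idx.ord_step T2_ord).of_cons (cons_of_subset (by decide +kernel))

theorem T0_ord : Ord.{u} iv T0_R [1,2,3,4,5] 126000 :=
  (T0_idx.ord_step T1_ord).of_cons (cons_of_subset (by decide +kernel))

theorem ord : Ord.{u} iv R L 126000 := T0_ord.of_cons (cons_of_subset (by decide +kernel))

theorem card : Nat.card (cl (gp nets) L) = 126000 := card_of_ord ord nets_iv nets_rel lb

noncomputable def nc_h : ℕ := (nat_lit 0x10000000000000000000000000001000500000000000000020000000000000000000000000002000000000200000300050000020000020005000003000000000400000300000200040000000000000000000006000003000000000000000400040000020000060002000004000006000500000000000600050000030000040004000000000004000200000000000300030000000000020001000000000001)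

noncomputable def nc_c : List ℕ := [(nat_lit 0x100004b000e0200000300004300004300004300004300140500003d00003700003f008a0300000500003f00ce02000037000039000031008a0300003100002900000900003100000500002f00000b00003300002d00000700003300000b00002b00000500c00e00002f00003100002b00003300002d00a005000015000025008a0200001d00002500260200000d00002300260200000b00002100001900ce03000019000017000009000011000019000017009a0600001700000500040200001700000d00060200000000000f000009000202000000000000000000000000000014)]

theorem nc_b : goalB 1 (fun _ p => p) iv (allCodes iv (([5,2,4], 0) :: R)) (fun t => look nc_h 64 t, nc_c) 0 [([1],1,(nat_lit 0x4d)),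
 ([2],1,(nat_lit 0x41)),
 ([3],1,(nat_lit 0x43)),
 ([4],1,(nat_lit 0x29)),
 ([5],1,(nat_lit 0x45))] (msk []) = true := by decide +kernel

theorem nc : Mem.{u} iv (([5,2,4], 0) :: R) ([].map fun x => [x]) [[1],
 [2],
 [3],
 [4],
 [5]] := mem_of_goalB nc_b

noncomputable def subs : List (List ℕ × ℕ) := [([4,1,2,4,2,1,4,2,1,4,2,1,4,1,4],125)]

theorem simpleB : cnd (transB nets L [5,2,4,2,5,4,1,2,5,4,2,1] 126) (cnd (fxB 128 7 126 nets L)
  (cnd (invB nets [1,2,3,4] (Nat.shiftLeft 1 0)) (subsB nets [1,2,3,4] subs 1) false) false) false = true := by decide +kernel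

theorem simple : IsSimpleGroup (cl (gp nets) L) :=
  simple_perm nets_ok (by norm_num) (by norm_num) nets_iv nets_rel (by decide +kernel) (fun x hx => mem_all (sub_of_subB (by decide +kernel) x hx)) simpleB (by decide +kernel)
    (p := 7) (a := 1) (m := 18000) (j := 1) (by norm_num) (card.trans (by norm_num)) (by norm_num) (by norm_num) (by decide +kernel)
    (w := [5,2,4]) (by decide +kernel) (eq_of_eqB (k := 7) (e := 6) (w := []) nets_ok (by norm_num) (by decide +kernel)) nc

end Cfsg.Lib.Comp.U35x
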