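import Cfsg.Agent.Lib.Comp.U35x.Main
import Cfsg.Agent.Lib.MatB.Fam
import Cfsg.Agent.S0280

set_option maxRecDepth 100000
set_option Elab.async false

namespace Cfsg.Lib.Comp.U35x

open Cfsg.Lib.MatB Matrix

universe u

def mT0 : List ℕ := [nat_lit 0x1, nat_lit 0x100, nat_lit 0x10000, nat_lit 0x1000000, nat_lit 0x100000000, nat_lit 0x10000000000]
def mT1 : List ℕ := [nat_lit 0x30400000001, nat_lit 0x1030300, nat_lit 0x2000300, nat_lit 0x1010300, nat_lit 0x30300000002, nat_lit 0x300000004]
def mT2 : List ℕ := [nat_lit 0x40202040203, nat_lit 0x10001040300, nat_lit 0x10202000200, nat_lit 0x40203030404, nat_lit 0x40300020002, nat_lit 0x200020404]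
def mT3 : List ℕ := [nat_lit 0x30403000003, nat_lit 0x30003020302, nat_lit 0x40401000404, nat_lit 0x3010301, nat_lit 0x20302010001, nat_lit 0x404030302]
def mT4 : List ℕ := [nat_lit 0x40200000001, nat_lit 0x3020000, nat_lit 0x1030200, nat_lit 0x1030400, nat_lit 0x20000000001, nat_lit 0x30200000002]
def mT5 : List ℕ := [nat_lit 0x10402000202, nat_lit 0x40003010000, nat_lit 0x10003010304, nat_lit 0x202020304, nat_lit 0x10000030001, nat_lit 0x10304020001]
def mT6 : List ℕ := [nat_lit 0x20000030203, nat_lit 0x20204020004, nat_lit 0x30404020404, nat_lit 0x30203040000, nat_lit 0x20004040403, nat_lit 0x20404010303]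
def mT7 : List ℕ := [nat_lit 0x20303000100, nat_lit 0x10201020003, nat_lit 0x30300010103, nat_lit 0x100040101, nat_lit 0x20003020402, nat_lit 0x10103010100]
def mT8 : List ℕ := [nat_lit 0x40102040204, nat_lit 0x30203020203, nat_lit 0x30403040302, nat_lit 0x40204030204, nat_lit 0x20203010401, nat_lit 0x40302010301]
def mT9 : List ℕ := [nat_lit 0x30101010001, nat_lit 0x20000020302, nat_lit 0x20402020303, nat_lit 0x10001010202, nat_lit 0x20302040000, nat_lit 0x20303040304]
def mT10 : List ℕ := [nat_lit 0x300010304, nat_lit 0x40301000103, nat_lit 0x40201040301, nat_lit 0x10304000100, nat_lit 0x103030102, nat_lit 0x40301030402]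
def mT11 : List ℕ := [nat_lit 0x20200010000, nat_lit 0x40404, nat_lit 0x10100000203, nat_lit 0x10000040400, nat_lit 0x40404000000, nat_lit 0x203020200]
def mT12 : List ℕ := [nat_lit 0x30004040200, nat_lit 0x20004020001, nat_lit 0x10004010204, nat_lit 0x40200010003, nat_lit 0x20001040003, nat_lit 0x10204020003]
def mT13 : List ℕ := [nat_lit 0x10202, nat_lit 0x30401040202, nat_lit 0x20104000001, nat_lit 0x10202000000, nat_lit 0x40202010302, nat_lit 0x1040203]
def mT14 : List ℕ := [nat_lit 0x201020100, nat_lit 0x204030402, nat_lit 0x30003000303, nat_lit 0x20100000402, nat_lit 0x30402000403, nat_lit 0x303010001]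
def mT15 : List ℕ := [nat_lit 0x202000203, nat_lit 0x40200000403, nat_lit 0x20001020002, nat_lit 0x203000404, nat_lit 0x403030400, nat_lit 0x20002040002]
def mT16 : List ℕ := [nat_lit 0x301030303, nat_lit 0x30000000102, nat_lit 0x20004040401, nat_lit 0x30303000102, nat_lit 0x102010000, nat_lit 0x40401040003]
def mT17 : List ℕ := [nat_lit 0x40400010002, nat_lit 0x302030101, nat_lit 0x4030100, nat_lit 0x10002030300, nat_lit 0x30101000104, nat_lit 0x30100000003]
def mT18 : List ℕ := [nat_lit 0x20204020302, nat_lit 0x20203030104, nat_lit 0x20103020003, nat_lit 0x20302040403, nat_lit 0x30104040401, nat_lit 0x20003040201]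
def mT19 : List ℕ := [nat_lit 0x30102010302, nat_lit 0x30400010402, nat_lit 0x10301030102, nat_lit 0x10302010204, nat_lit 0x10402010300, nat_lit 0x30102020102]
def mT20 : List ℕ := [nat_lit 0x30004030104, nat_lit 0x20304040003, nat_lit 0x10204030400, nat_lit 0x30104010003, nat_lit 0x40003040103, nat_lit 0x30400020403]
def mT21 : List ℕ := [nat_lit 0x30102000204, nat_lit 0x30304040203, nat_lit 0x20103030400, nat_lit 0x204010204, nat_lit 0x40203010103, nat_lit 0x30400040201]
def mT22 : List ℕ := [nat_lit 0x2000002, nat_lit 0x200000200, nat_lit 0x20000020000, nat_lit 0x2000004, nat_lit 0x200000400, nat_lit 0x20000040000]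
def mT23 : List ℕ := [nat_lit 0x3000002, nat_lit 0x300000200, nat_lit 0x30000020000, nat_lit 0x2000001, nat_lit 0x200000100, nat_lit 0x20000010000]

def mtabs : List (List ℕ) := [mT0, mT1, mT2, mT3, mT4, mT5, mT6, mT7, mT8, mT9, mT10, mT11, mT12, mT13, mT14, mT15, mT16, mT17, mT18, mT19, mT20, mT21, mT22, mT23]

noncomputable def mtab : ℕ → List ℕ := nth mT0 mtabs

noncomputable def mrd : ℕ → ℕ := red 8 5 6

theorem mctx : Ctx 8 5 3 6 (QuadraticAlgebra.omega : K25) (@Fin.val 3) mrd :=
  ⟨by decide +kernel, by decide +kernel, by decide +kernel, Or.inl rfl, by decide +kernel, by norm_num, by norm_num,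
    fun _ => rfl⟩

theorem mok : ∀ x, TabOK 8 3 6 (QuadraticAlgebra.omega : K25) mrd (mtab x) := tabOK_nth (by decide +kernel)

noncomputable abbrev mM (x : ℕ) : Matrix (Fin 3) (Fin 3) K25 := tm 8 3 (QuadraticAlgebra.omega : K25) (@Fin.val 3) (mtab x)

noncomputable def mR : List (List ℕ × ℕ) := apd R (L.map fun x => ([x, iv x], 0))

theorem mside : SideOK iv R mR L := by decide +kernel

theorem mrel : relB 8 3 mrd mtab [0, 22, 23] mR = true := by decide +kernel

theorem mdet : detB 8 3 mrd mtab [(1, 6, 7, 8, 9), (2, 10, 11, 12, 13), (3, 11, 10, 13, 12), (4, 14, 15, 16, 17), (5, 18, 19, 20, 21)] = true := by decide +kernel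

theorem muni : ∀ x ∈ L, (mM x)ᵀ * (mM x).map (· ^ 5) = 1 := by decide +kernel

theorem iso {F : Type u} [Field F] [Fintype F] (hF : Fintype.card F = 25) :
    Nonempty (cl (gp nets) L ≃* PSU 3 F 5) := by
  obtain ⟨φ⟩ := hom25 hF
  obtain ⟨σ, hσ⟩ := exists_frob φ (p := 5) (by norm_num) (by decide +kernel)
  have := simple
  have := nets_ok.finite L
  refine bridge_proj nets_iv nets_rel ord card mside φ φ.injective _ (su_inj 3 5)
    (M := mM) (fun x hx => su_mem φ hσ (mctx.det mok mdet x hx) (muni x hx)) (by decide +kernel) (mctx.rel mok mrel)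
    (x := 1) (y := 4) (by decide) (by decide) (i := 0) (j := 1) (by decide +kernel) ?_
  have h := Cfsg.Agent.S0280.result (q := 5) hF 3 (by norm_num)
  change Nat.card (PSU 3 F 5) = _
  norm_num [Finset.prod_range_succ, Fin.prod_univ_succ] at h
  omega

end Cfsg.Lib.Comp.U35x
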