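import Cfsg.Agent.Lib.Comp.U35x.Base

set_option maxRecDepth 100000
set_option Elab.async false

namespace Cfsg.Lib.Comp.U35x

universe u

noncomputable def nets_1 : Net :=
 (Net.cons 1 (nat_lit 0x15555555555555555555555555555540)
 Net.nil)

noncomputable def nets_2 : Net :=
 (Net.cons 64 (nat_lit 0xc000000000000000)
 (Net.cons 32 (nat_lit 0xc000000000000000c0000000)
 (Net.cons 16 (nat_lit 0xc000000000000000c0000000c000)
 (Net.cons 8 (nat_lit 0xc000c000c000c000c0000000c000c0)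
 (Net.cons 4 (nat_lit 0xc0c0000000c0c0c000c00000c00000c)
 (Net.cons 1 (nat_lit 0x54514501400410151540411404045440)
 (Net.cons 2 (nat_lit 0x3303333333003303030333003303330)
 (Net.cons 4 (nat_lit 0x303030c0c0303030f03030f030f030c)
 (Net.cons 8 (nat_lit 0xc000c000c000c000c000c300c000c0)
 (Net.cons 16 (nat_lit 0xc0000000c00c0000c0000000c000)
 (Net.cons 32 (nat_lit 0xc000000000000000c0000000)
 (Net.cons 64 (nat_lit 0xc000000000000000)
 Net.nil))))))))))))

noncomputable def nets_4 : Net :=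
 (Net.cons 64 (nat_lit 0x39d86e1973b19c04)
 (Net.cons 32 (nat_lit 0xf1eabe0000000000442ec608)
 (Net.cons 16 (nat_lit 0x9e0000009a0000006bb40000ed98)
 (Net.cons 8 (nat_lit 0x1000000074009e0038006200f200a0)
 (Net.cons 4 (nat_lit 0x8040a0a0c08040000080c08080a0a06)
 (Net.cons 2 (nat_lit 0x20200002000020020020002022020000)
 (Net.cons 1 (nat_lit 0x10141411051514041010414114045050)
 (Net.cons 2 (nat_lit 0x21210003130331022202302311323332)
 (Net.cons 4 (nat_lit 0x80e020c080b010a090407070a020e)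
 (Net.cons 8 (nat_lit 0xea00e4007c009e00c600de00f20018)
 (Net.cons 16 (nat_lit 0x5e4d00009a00000063a50000ed98)
 (Net.cons 32 (nat_lit 0xf9eabe0000000000442ec648)
 (Net.cons 64 (nat_lit 0x39d86f1973b19c04)
 Net.nil)))))))))))))

noncomputable def nets_5 : Net :=
 (Net.cons 64 (nat_lit 0xf03333300cf3030c)
 (Net.cons 32 (nat_lit 0xf30cf0c0000000000fc3ffc0)
 (Net.cons 16 (nat_lit 0xcf000003f000000ccf0000000c0)
 (Net.cons 8 (nat_lit 0xcc003c003000c0000000f000300000)
 (Net.cons 4 (nat_lit 0xc0000000000)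
 (Net.cons 1 (nat_lit 0x41100045111544140014151155000544)
 (Net.cons 2 (nat_lit 0x33303033330333003333030030003000)
 (Net.cons 4 (nat_lit 0x300000c0c0003000f0f0c030003000f)
 (Net.cons 8 (nat_lit 0x300c00033000000fc00300000)
 (Net.cons 16 (nat_lit 0xf30c0000c0f00000ccf000000cc0)
 (Net.cons 32 (nat_lit 0xf30cf303000000000fc3ffc0)
 (Net.cons 64 (nat_lit 0xf03333300cf3030c)
 Net.nil))))))))))))

noncomputable def nets : List Net := [Net.nil,
 nets_1,
 nets_2,
 Net.rev nets_2,
 nets_4,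
 nets_5]

theorem nets_ok : NetsOK 128 nets := netsOK_of (by decide +kernel)

theorem nets_rel : Rels (gp nets) R := rels_of_relsB (k := 7) nets_ok (by norm_num) (by decide +kernel)

theorem nets_iv : IvOK (gp nets) iv := ivOK_of_ivB (k := 7) nets_ok (by norm_num) (by decide +kernel)

noncomputable def slp : List (ℕ × List ℕ) := []

theorem slp_ok : slpB 128 7 nets slp L = true := by decide +kernel

theorem mem_all {x : ℕ} (h : x ∈ L ++ slp.map (·.1)) : gp nets x ∈ cl (gp nets) L :=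
  cl_eq_of_slpB nets_ok (by norm_num) slp_ok ▸ mem_cl h

theorem lb : 126000 ≤ Nat.card (cl (gp nets) L) := by
  rw [← cl_eq_of_slpB nets_ok (by norm_num) slp_ok]
  exact lb_of_chainB nets_ok (C := [([1,2,3,4],[5,2,4,2,5,4,1,2,5,4,2,1],0,0,126),
 ([1,2,3],[4,1,2,4,2,1,4,2,1,4,2,1,4,1,4],1,1,125),
 ([1],[2,2,2],2,2,4),
 ([],[1],6,6,2)]) (by decide +kernel)

end Cfsg.Lib.Comp.U35x
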